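import Cfsg.Agent.Lib.Grp.TD4.D0

set_option autoImplicit false
set_option maxRecDepth 100000
set_option Elab.async false
set_option linter.unusedSectionVars false

namespace Cfsg.Agent.CG.TD4

noncomputable def t0 : Tr ℕ := (.node (.node (.node (.leaf t0_0) (.leaf t0_4)) (.leaf t0_2)) (.node (.node (.leaf t0_1) (.leaf t0_5)) (.leaf t0_3)))
noncomputable def t1 : Tr ℕ := (.node (.node (.node (.leaf t1_0) (.leaf t1_4)) (.leaf t1_2)) (.node (.node (.leaf t1_1) (.leaf t1_5)) (.leaf t1_3)))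
noncomputable def t2 : Tr ℕ := (.node (.node (.node (.leaf t2_0) (.leaf t2_4)) (.leaf t2_2)) (.node (.node (.leaf t2_1) (.leaf t2_5)) (.leaf t2_3)))
noncomputable def t3 : Tr ℕ := (.node (.node (.node (.leaf t3_0) (.leaf t3_4)) (.leaf t3_2)) (.node (.node (.leaf t3_1) (.leaf t3_5)) (.leaf t3_3)))
noncomputable def t4 : Tr ℕ := (.node (.node (.node (.leaf t4_0) (.leaf t4_4)) (.leaf t4_2)) (.node (.node (.leaf t4_1) (.leaf t4_5)) (.leaf t4_3)))
noncomputable def t5 : Tr ℕ := (.node (.node (.node (.leaf t5_0) (.leaf t5_4)) (.leaf t5_2)) (.node (.node (.leaf t5_1) (.leaf t5_5)) (.leaf t5_3)))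
noncomputable def t6 : Tr ℕ := (.node (.node (.node (.leaf t6_0) (.leaf t6_4)) (.leaf t6_2)) (.node (.node (.leaf t6_1) (.leaf t6_5)) (.leaf t6_3)))
noncomputable def t7 : Tr ℕ := (.node (.node (.node (.leaf t7_0) (.leaf t7_4)) (.leaf t7_2)) (.node (.node (.leaf t7_1) (.leaf t7_5)) (.leaf t7_3)))
noncomputable def t8 : Tr ℕ := (.node (.node (.node (.leaf t8_0) (.leaf t8_4)) (.leaf t8_2)) (.node (.node (.leaf t8_1) (.leaf t8_5)) (.leaf t8_3)))
noncomputable def t9 : Tr ℕ := (.node (.node (.node (.leaf t9_0) (.leaf t9_4)) (.leaf t9_2)) (.node (.node (.leaf t9_1) (.leaf t9_5)) (.leaf t9_3)))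
noncomputable def t10 : Tr ℕ := (.node (.node (.node (.leaf t10_0) (.leaf t10_4)) (.leaf t10_2)) (.node (.node (.leaf t10_1) (.leaf t10_5)) (.leaf t10_3)))
noncomputable def t11 : Tr ℕ := (.node (.node (.node (.leaf t11_0) (.leaf t11_4)) (.leaf t11_2)) (.node (.node (.leaf t11_1) (.leaf t11_5)) (.leaf t11_3)))
noncomputable def t12 : Tr ℕ := (.node (.node (.node (.leaf t12_0) (.leaf t12_4)) (.leaf t12_2)) (.node (.node (.leaf t12_1) (.leaf t12_5)) (.leaf t12_3)))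
noncomputable def t13 : Tr ℕ := (.node (.node (.node (.leaf t13_0) (.leaf t13_4)) (.leaf t13_2)) (.node (.node (.leaf t13_1) (.leaf t13_5)) (.leaf t13_3)))
noncomputable def t14 : Tr ℕ := (.node (.node (.node (.leaf t14_0) (.leaf t14_4)) (.leaf t14_2)) (.node (.node (.leaf t14_1) (.leaf t14_5)) (.leaf t14_3)))
noncomputable def t15 : Tr ℕ := (.node (.node (.node (.leaf t15_0) (.leaf t15_4)) (.leaf t15_2)) (.node (.node (.leaf t15_1) (.leaf t15_5)) (.leaf t15_3)))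
noncomputable def t16 : Tr ℕ := (.node (.node (.node (.leaf t16_0) (.leaf t16_4)) (.leaf t16_2)) (.node (.node (.leaf t16_1) (.leaf t16_5)) (.leaf t16_3)))
noncomputable def t17 : Tr ℕ := (.node (.node (.node (.leaf t17_0) (.leaf t17_4)) (.leaf t17_2)) (.node (.node (.leaf t17_1) (.leaf t17_5)) (.leaf t17_3)))
noncomputable def t18 : Tr ℕ := (.node (.node (.node (.leaf t18_0) (.leaf t18_4)) (.leaf t18_2)) (.node (.node (.leaf t18_1) (.leaf t18_5)) (.leaf t18_3)))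
noncomputable def t19 : Tr ℕ := (.node (.node (.node (.leaf t19_0) (.leaf t19_4)) (.leaf t19_2)) (.node (.node (.leaf t19_1) (.leaf t19_5)) (.leaf t19_3)))
noncomputable def t20 : Tr ℕ := (.node (.node (.node (.leaf t20_0) (.leaf t20_4)) (.leaf t20_2)) (.node (.node (.leaf t20_1) (.leaf t20_5)) (.leaf t20_3)))
noncomputable def t21 : Tr ℕ := (.node (.node (.node (.leaf t21_0) (.leaf t21_4)) (.leaf t21_2)) (.node (.node (.leaf t21_1) (.leaf t21_5)) (.leaf t21_3)))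
noncomputable def t22 : Tr ℕ := (.node (.node (.node (.leaf t22_0) (.leaf t22_4)) (.leaf t22_2)) (.node (.node (.leaf t22_1) (.leaf t22_5)) (.leaf t22_3)))
noncomputable def t23 : Tr ℕ := (.node (.node (.node (.leaf t23_0) (.leaf t23_4)) (.leaf t23_2)) (.node (.node (.leaf t23_1) (.leaf t23_5)) (.leaf t23_3)))
noncomputable def t24 : Tr ℕ := (.node (.node (.node (.leaf t24_0) (.leaf t24_4)) (.leaf t24_2)) (.node (.node (.leaf t24_1) (.leaf t24_5)) (.leaf t24_3)))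
noncomputable def t25 : Tr ℕ := (.node (.node (.node (.leaf t25_0) (.leaf t25_4)) (.leaf t25_2)) (.node (.node (.leaf t25_1) (.leaf t25_5)) (.leaf t25_3)))
noncomputable def t26 : Tr ℕ := (.node (.node (.node (.leaf t26_0) (.leaf t26_4)) (.leaf t26_2)) (.node (.node (.leaf t26_1) (.leaf t26_5)) (.leaf t26_3)))
noncomputable def t27 : Tr ℕ := (.node (.node (.node (.leaf t27_0) (.leaf t27_4)) (.leaf t27_2)) (.node (.node (.leaf t27_1) (.leaf t27_5)) (.leaf t27_3)))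
noncomputable def t28 : Tr ℕ := (.node (.node (.node (.leaf t28_0) (.leaf t28_4)) (.leaf t28_2)) (.node (.node (.leaf t28_1) (.leaf t28_5)) (.leaf t28_3)))
noncomputable def t29 : Tr ℕ := (.node (.node (.node (.leaf t29_0) (.leaf t29_4)) (.leaf t29_2)) (.node (.node (.leaf t29_1) (.leaf t29_5)) (.leaf t29_3)))
noncomputable def t30 : Tr ℕ := (.node (.node (.node (.leaf t30_0) (.leaf t30_4)) (.leaf t30_2)) (.node (.node (.leaf t30_1) (.leaf t30_5)) (.leaf t30_3)))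
noncomputable def mc0c : Tr ℕ := (.node (.node (.node (.leaf mc0c_0) (.leaf mc0c_4)) (.leaf mc0c_2)) (.node (.node (.leaf mc0c_1) (.leaf mc0c_5)) (.leaf mc0c_3)))
noncomputable def mc0p : Tr ℕ := (.node (.node (.node (.leaf mc0p_0) (.leaf mc0p_4)) (.leaf mc0p_2)) (.node (.leaf mc0p_1) (.leaf mc0p_3)))
noncomputable def mc0l : Tr ℕ := (.node (.node (.leaf mc0l_0) (.leaf mc0l_2)) (.leaf mc0l_1))
noncomputable def mc0i : Tr ℕ := (.node (.node (.leaf mc0i_0) (.leaf mc0i_2)) (.leaf mc0i_1))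
noncomputable def mc0q : Tr ℕ := (.node (.node (.node (.leaf mc0q_0) (.leaf mc0q_4)) (.leaf mc0q_2)) (.node (.node (.leaf mc0q_1) (.leaf mc0q_5)) (.leaf mc0q_3)))
noncomputable def mc1c : Tr ℕ := (.node (.leaf mc1c_0) (.leaf mc1c_1))
noncomputable def mc1p : Tr ℕ := (.node (.leaf mc1p_0) (.leaf mc1p_1))
noncomputable def mc1q : Tr ℕ := (.node (.node (.node (.leaf mc1q_0) (.leaf mc1q_4)) (.leaf mc1q_2)) (.node (.node (.leaf mc1q_1) (.leaf mc1q_5)) (.leaf mc1q_3)))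
noncomputable def mc2q : Tr ℕ := (.node (.node (.node (.leaf mc2q_0) (.leaf mc2q_4)) (.leaf mc2q_2)) (.node (.node (.leaf mc2q_1) (.leaf mc2q_5)) (.leaf mc2q_3)))
noncomputable def tabs : List (Tr ℕ) := [t0,t1,t2,t3,t4,t5,t6,t7,t8,t9,t10,t11,t12,t13,t14,t15,t16,t17,t18,t19,t20,t21,t22,t23,t24,t25,t26,t27,t28,t29]
noncomputable abbrev app : ℕ → ℕ → ℕ := appB tabs t30 0xfffff
noncomputable def slpL : List (Bool × List ℕ) := [(false,[]),
  (false,[]),
  (false,[]),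
  (false,[]),
  (false,[]),
  (false,[]),
  (false,[]),
  (false,[]),
  (false,[]),
  (false,[2,0,4,1,3]),
  (true,[9]),
  (false,[6,7,4,3]),
  (true,[11]),
  (false,[4,1,2]),
  (true,[13]),
  (false,[4,1,10]),
  (true,[15]),
  (false,[14,4,16,6]),
  (true,[17]),
  (false,[3,15,3]),
  (true,[19]),
  (false,[3,10,1]),
  (false,[6,4,5]),
  (false,[7]),
  (true,[23]),
  (false,[11,15,12]),
  (true,[25]),
  (false,[19,19,21,23,25,24,25,20]),
  (true,[27]),
  (false,[23,22,25,24])]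
noncomputable def slp (a : ℕ) : Bool × List ℕ := nth slpL (false, []) a
noncomputable def invL : List ℕ := [0,1,2,3,4,6,5,8,7,10,9,12,11,14,13,16,15,18,17,20,19,21,22,24,23,26,25,28,27,29]
noncomputable def inv (a : ℕ) : ℕ := nth invL 30 a
noncomputable def bs : List ℕ := [0,120,20]
noncomputable def mc0 : Lvl := ⟨0, [0,1,2,3,4,5,6,7,8,9,10,11,12,13,14,15,16,17,18], 17199,
  fun i => lk2 mc0c 0xfffff (Nat.mul 20 i), fun i => lk2 mc0p 0xffff (Nat.mul 16 i),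
  fun i => lk2 mc0l 0xff (Nat.mul 8 i), fun i => lk2 mc0i 0xff (Nat.mul 8 i), fun x => lk2 mc0q 0xfffff x, 6⟩
noncomputable def mc1 : Lvl := ⟨120, [19,20,21,22,23,24,25,26], 6144,
  fun i => lk2 mc1c 0xfffff (Nat.mul 20 i), fun i => lk2 mc1p 0xffff (Nat.mul 16 i),
  fun i => look 0xff mc1l (Nat.mul 8 i), fun i => look 0xff mc1i (Nat.mul 8 i), fun x => lk2 mc1q 0xfffff x, 8⟩
noncomputable def mc2 : Lvl := ⟨20, [27,28,29], 6,
  fun i => look 0xfffff mc2c (Nat.mul 20 i), fun i => look 0xf mc2p (Nat.mul 4 i),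
  fun i => look 0xff mc2l (Nat.mul 8 i), fun i => look 0xff mc2i (Nat.mul 8 i), fun x => lk2 mc2q 0xfffff x, 2⟩
noncomputable def mc : List Lvl := [mc0, mc1, mc2]
noncomputable def tcR : List (List ℕ) := [[0,0],
  [1,1],
  [2,2],
  [3,3],
  [4,4],
  [5,6],
  [7,8],
  [0,1,0,1,0,1],
  [0,4,0,4],
  [1,2,1,2,1,2],
  [1,3,1,3],
  [1,4,1,4],
  [0,3,2,3,2,3,2,3,2],
  [2,4,2,4],
  [3,4,3,4,3,4],
  [1,2,3,4,1,2,3,4,1,2,3,4,1,2,3,4,1,2,3,4,1,2,3,4,1,2,3,4,1,2,3,4],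
  [5,5,5,5,5,5,5],
  [6,0,5,0],
  [6,1,5,1],
  [6,2,5,2],
  [5,3,5,3],
  [4,6,4,5,6,6,6,4,5,5,5],
  [7,7,7],
  [8,0,7,0],
  [8,1,7,1],
  [8,2,7,2],
  [8,3,7,3],
  [8,4,7,4],
  [8,5,7,6,6]]
noncomputable def tcS : List ℕ := [0,1,2,3,4,5,6,7,8]

end Cfsg.Agent.CG.TD4
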