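import Cfsg.Agent.Lib.Grp.TD4.Defs

set_option autoImplicit false
set_option maxRecDepth 100000
set_option Elab.async false
set_option linter.unusedSectionVars false

namespace Cfsg.Agent.CG.TD4

theorem c0 : allRange (chkBase 17199 20 (appB tabs t30 0xfffff) 0 (inv 0)) 0 17199 = true := by decide +kernel
theorem c1 : allRange (chkBase 17199 20 (appB tabs t30 0xfffff) 1 (inv 1)) 0 17199 = true := by decide +kernel
theorem c2 : allRange (chkBase 17199 20 (appB tabs t30 0xfffff) 2 (inv 2)) 0 17199 = true := by decide +kernel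
theorem c3 : allRange (chkBase 17199 20 (appB tabs t30 0xfffff) 3 (inv 3)) 0 17199 = true := by decide +kernel
theorem c4 : allRange (chkBase 17199 20 (appB tabs t30 0xfffff) 4 (inv 4)) 0 17199 = true := by decide +kernel
theorem c5 : allRange (chkBase 17199 20 (appB tabs t30 0xfffff) 5 (inv 5)) 0 17199 = true := by decide +kernel
theorem c6 : allRange (chkBase 17199 20 (appB tabs t30 0xfffff) 6 (inv 6)) 0 17199 = true := by decide +kernel
theorem c7 : allRange (chkBase 17199 20 (appB tabs t30 0xfffff) 7 (inv 7)) 0 17199 = true := by decide +kernel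
theorem c8 : allRange (chkBase 17199 20 (appB tabs t30 0xfffff) 8 (inv 8)) 0 17199 = true := by decide +kernel
theorem c9 : chkDef 20 (appB tabs t30 0xfffff) 9 (slp 9) 0 17199 = true := by decide +kernel
theorem c10 : chkDef 20 (appB tabs t30 0xfffff) 10 (slp 10) 0 17199 = true := by decide +kernel
theorem c11 : chkDef 20 (appB tabs t30 0xfffff) 11 (slp 11) 0 17199 = true := by decide +kernel
theorem c12 : chkDef 20 (appB tabs t30 0xfffff) 12 (slp 12) 0 17199 = true := by decide +kernel
theorem c13 : chkDef 20 (appB tabs t30 0xfffff) 13 (slp 13) 0 17199 = true := by decide +kernel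
theorem c14 : chkDef 20 (appB tabs t30 0xfffff) 14 (slp 14) 0 17199 = true := by decide +kernel
theorem c15 : chkDef 20 (appB tabs t30 0xfffff) 15 (slp 15) 0 17199 = true := by decide +kernel
theorem c16 : chkDef 20 (appB tabs t30 0xfffff) 16 (slp 16) 0 17199 = true := by decide +kernel
theorem c17 : chkDef 20 (appB tabs t30 0xfffff) 17 (slp 17) 0 17199 = true := by decide +kernel
theorem c18 : chkDef 20 (appB tabs t30 0xfffff) 18 (slp 18) 0 17199 = true := by decide +kernel
theorem c19 : chkDef 20 (appB tabs t30 0xfffff) 19 (slp 19) 0 17199 = true := by decide +kernel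
theorem c20 : chkDef 20 (appB tabs t30 0xfffff) 20 (slp 20) 0 17199 = true := by decide +kernel
theorem c21 : chkDef 20 (appB tabs t30 0xfffff) 21 (slp 21) 0 17199 = true := by decide +kernel
theorem c22 : chkDef 20 (appB tabs t30 0xfffff) 22 (slp 22) 0 17199 = true := by decide +kernel
theorem c23 : chkDef 20 (appB tabs t30 0xfffff) 23 (slp 23) 0 17199 = true := by decide +kernel
theorem c24 : chkDef 20 (appB tabs t30 0xfffff) 24 (slp 24) 0 17199 = true := by decide +kernel
theorem c25 : chkDef 20 (appB tabs t30 0xfffff) 25 (slp 25) 0 17199 = true := by decide +kernel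
theorem c26 : chkDef 20 (appB tabs t30 0xfffff) 26 (slp 26) 0 17199 = true := by decide +kernel
theorem c27 : chkDef 20 (appB tabs t30 0xfffff) 27 (slp 27) 0 17199 = true := by decide +kernel
theorem c28 : chkDef 20 (appB tabs t30 0xfffff) 28 (slp 28) 0 17199 = true := by decide +kernel
theorem c29 : chkDef 20 (appB tabs t30 0xfffff) 29 (slp 29) 0 17199 = true := by decide +kernel
theorem c30 : chkDef 20 (appB tabs t30 0xfffff) 30 (false, []) 0 17199 = true := by decide +kernel
theorem c31 : mc0.chk (appB tabs t30 0xfffff) 1 17198 = true := by decide +kernel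
theorem c32 : mc1.chk (appB tabs t30 0xfffff) 1 6143 = true := by decide +kernel
theorem c33 : mc2.chk (appB tabs t30 0xfffff) 1 5 = true := by decide +kernel
theorem c34 : okcb 17199 20 (bases mc) = true := by decide +kernel
theorem c35 : headAll (appB tabs t30 0xfffff) mc [] = true := by decide +kernel
theorem c36 : oneAll 20 (appB tabs t30 0xfffff) [0,0] 0 17199 = true := by decide +kernel
theorem c37 : oneAll 20 (appB tabs t30 0xfffff) [1,1] 0 17199 = true := by decide +kernel
theorem c38 : oneAll 20 (appB tabs t30 0xfffff) [2,2] 0 17199 = true := by decide +kernel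
theorem c39 : oneAll 20 (appB tabs t30 0xfffff) [3,3] 0 17199 = true := by decide +kernel
theorem c40 : oneAll 20 (appB tabs t30 0xfffff) [4,4] 0 17199 = true := by decide +kernel
theorem c41 : oneAll 20 (appB tabs t30 0xfffff) [5,6] 0 17199 = true := by decide +kernel
theorem c42 : oneAll 20 (appB tabs t30 0xfffff) [7,8] 0 17199 = true := by decide +kernel
theorem c43 : oneAll 20 (appB tabs t30 0xfffff) [0,1,0,1,0,1] 0 17199 = true := by decide +kernel
theorem c44 : oneAll 20 (appB tabs t30 0xfffff) [0,4,0,4] 0 17199 = true := by decide +kernel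
theorem c45 : oneAll 20 (appB tabs t30 0xfffff) [1,2,1,2,1,2] 0 17199 = true := by decide +kernel
theorem c46 : oneAll 20 (appB tabs t30 0xfffff) [1,3,1,3] 0 17199 = true := by decide +kernel
theorem c47 : oneAll 20 (appB tabs t30 0xfffff) [1,4,1,4] 0 17199 = true := by decide +kernel
theorem c48 : oneAll 20 (appB tabs t30 0xfffff) [0,3,2,3,2,3,2,3,2] 0 17199 = true := by decide +kernel
theorem c49 : oneAll 20 (appB tabs t30 0xfffff) [2,4,2,4] 0 17199 = true := by decide +kernel
theorem c50 : oneAll 20 (appB tabs t30 0xfffff) [3,4,3,4,3,4] 0 17199 = true := by decide +kernel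
theorem c51 : oneAll 20 (appB tabs t30 0xfffff) [1,2,3,4,1,2,3,4,1,2,3,4,1,2,3,4,1,2,3,4,1,2,3,4,1,2,3,4,1,2,3,4] 0 12958 = true := by decide +kernel
theorem c52 : oneAll 20 (appB tabs t30 0xfffff) [1,2,3,4,1,2,3,4,1,2,3,4,1,2,3,4,1,2,3,4,1,2,3,4,1,2,3,4,1,2,3,4] 12958 4241 = true := by decide +kernel
theorem c53 : oneAll 20 (appB tabs t30 0xfffff) [5,5,5,5,5,5,5] 0 17199 = true := by decide +kernel
theorem c54 : oneAll 20 (appB tabs t30 0xfffff) [6,0,5,0] 0 17199 = true := by decide +kernel
theorem c55 : oneAll 20 (appB tabs t30 0xfffff) [6,1,5,1] 0 17199 = true := by decide +kernel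
theorem c56 : oneAll 20 (appB tabs t30 0xfffff) [6,2,5,2] 0 17199 = true := by decide +kernel
theorem c57 : oneAll 20 (appB tabs t30 0xfffff) [5,3,5,3] 0 17199 = true := by decide +kernel
theorem c58 : oneAll 20 (appB tabs t30 0xfffff) [4,6,4,5,6,6,6,4,5,5,5] 0 17199 = true := by decide +kernel
theorem c59 : oneAll 20 (appB tabs t30 0xfffff) [7,7,7] 0 17199 = true := by decide +kernel
theorem c60 : oneAll 20 (appB tabs t30 0xfffff) [8,0,7,0] 0 17199 = true := by decide +kernel
theorem c61 : oneAll 20 (appB tabs t30 0xfffff) [8,1,7,1] 0 17199 = true := by decide +kernel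
theorem c62 : oneAll 20 (appB tabs t30 0xfffff) [8,2,7,2] 0 17199 = true := by decide +kernel
theorem c63 : oneAll 20 (appB tabs t30 0xfffff) [8,3,7,3] 0 17199 = true := by decide +kernel
theorem c64 : oneAll 20 (appB tabs t30 0xfffff) [8,4,7,4] 0 17199 = true := by decide +kernel
theorem c65 : oneAll 20 (appB tabs t30 0xfffff) [8,5,7,6,6] 0 17199 = true := by decide +kernel

end Cfsg.Agent.CG.TD4
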